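import Mathlib
import Cfsg.Agent.Lib.Helper75.S4504.MainLemmaEq
import Cfsg.Agent.Lib.Helper78.BrauerHalfBlk

/-!
# S4705 module [P-BF] (helper17's sheet SPINE4705.md): helper50 (hedge)

`blk_full` = helper78's `BrauerHalf.blk_data` (Lib/Helper78/BrauerHalfBlk.lean), Y-case, keeping `X`, `X.card = e`, the
signs `a χ` and the last clause `hreg` of `main_aux_gen_iff_h78`; with `3 e ≤ p - 1` we have `|Y| ≥ 3`, so
`norm_cases_general` gives `d = 0`.  The proof is helper78's, cut before the swap case.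
-/

set_option autoImplicit false
set_option linter.unusedSectionVars false

namespace Cfsg.Agent.Lib.Helper50.S4705

open Cfsg Cfsg.Agent.Lib.Helper78 Cfsg.Agent.Lib.Helper16 Cfsg.Agent.Lib.Helper3.DefOneGen
  Cfsg.Agent.Lib.Helper75.McKayOne Cfsg.Agent.Lib.Helper75.BHMods
  Cfsg.Agent.Lib.Helper75.BrauerHalf Cfsg.Agent.Lib.Helper78.BrauerHalf
open scoped ComplexConjugate IsMulCommutative

universe u

variable {G : Type u} [Group G] [Fintype G] {p : ℕ} [hp : Fact p.Prime] (P : Sylow p G)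
  (hP : Nat.card P = p)
variable [Fintype ↥(Subgroup.centralizer ((P : Subgroup G) : Set G))] [Fintype ↥(P : Subgroup G)]
  [IsMulCommutative ↥(P : Subgroup G)] [Fintype (↥(P : Subgroup G) →* ℂˣ)]
  [Fintype ↥(Subgroup.normalizer ((P : Subgroup G) : Set G))]
variable {M : Ideal AlgInt}

local notation "CP" => Subgroup.centralizer ((P : Subgroup G) : Set G)
local notation "NP" => Subgroup.normalizer ((P : Subgroup G) : Set G)

attribute [local instance] nAct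

include hP in
open scoped Classical in
/-- **[P-BF]** -/
theorem blk_full (hM : IsPModular p M) (θ : IrrCharacter ↥CP)
    (hθ : ∀ x : ↥CP, (x : G) ∈ (P : Subgroup G) → (θ : ↥CP → ℂ) x = (θ : ↥CP → ℂ) 1)
    {B : Set (IrrCharacter G)} (hind : IsInducedBlock M CP (blockOf M (θ : ↥CP → ℂ)) B)
    (h3e : 3 * (CP).relIndex (thetaStab P θ) ≤ p - 1) :
    ∃ (δ : ℤ) (Y X : Finset (IrrCharacter G))
      (ζ : (↥(P : Subgroup G) →* ℂˣ) → IrrCharacter G) (a : IrrCharacter G → ℤ),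
      (δ = 1 ∨ δ = -1) ∧ (∀ χ, χ ∈ X ↔ χ ∈ B ∧ χ ∉ Y) ∧ (∀ η ∈ Y, η ∈ B) ∧
      X.card = (CP).relIndex (thetaStab P θ) ∧
      Y.card * (CP).relIndex (thetaStab P θ) = p - 1 ∧
      (∀ χ ∈ X, a χ = 1 ∨ a χ = -1) ∧
      (∀ χ ∈ X, ∀ y : ↥(P : Subgroup G), y ≠ 1 →
        fpart p CP (χ : G → ℂ) (θ : ↥CP → ℂ) (y : G) = (a χ : ℂ)) ∧
      (∀ ψ : ↥(P : Subgroup G) →* ℂˣ, ψ ≠ 1 → ζ ψ ∈ Y) ∧
      (∀ η ∈ Y, ∃ ψ : ↥(P : Subgroup G) →* ℂˣ, ψ ≠ 1 ∧ ζ ψ = η) ∧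
      (∀ ψ ψ' : ↥(P : Subgroup G) →* ℂˣ, ψ ≠ 1 → ψ' ≠ 1 →
        (ζ ψ = ζ ψ' ↔ ∃ n : G, n ∈ thetaStab P θ ∧
          ∀ w w' : ↥(P : Subgroup G), (w' : G) = n * (w : G) * n⁻¹ → ψ' w' = ψ w)) ∧
      (∀ ψ : ↥(P : Subgroup G) →* ℂˣ, ψ ≠ 1 → ∀ y : ↥(P : Subgroup G), y ≠ 1 →
        fpart p CP (ζ ψ : G → ℂ) (θ : ↥CP → ℂ) (y : G) = (δ : ℂ) *
          ∑ᶠ ψ' ∈ {ψ' : ↥(P : Subgroup G) →* ℂˣ | ∃ n : G, n ∈ thetaStab P θ ∧
            ∀ w w' : ↥(P : Subgroup G), (w' : G) = n * (w : G) * n⁻¹ → ψ' w' = ψ w},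
            ((ψ' y : ℂˣ) : ℂ)) ∧
      (∀ g : G, ¬ p ∣ orderOf g →
        (∀ η ∈ Y, ∀ η' ∈ Y, (η : G → ℂ) g = (η' : G → ℂ) g) ∧
        ∀ η ∈ Y, -(δ : ℂ) * (η : G → ℂ) g + ∑ χ ∈ X, (a χ : ℂ) * (χ : G → ℂ) g = 0) := by
  classical
  have hpp : p.Prime := hp.out
  have hp2 := hpp.two_le
  have hMp : M.IsPrime := isPModular_isPrime hM
  have hB : IsPBlock M B := hind.2.1
  have hθK := inKer_of_apply_eq P hP θ hθ
  have hθb : θ ∈ blockOf M (θ : ↥CP → ℂ) := self_mem_blockOf hMp.ne_top θ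
  obtain ⟨hTN, hT'⟩ := stab_iff_of_literal P θ (thetaStab P θ) (mem_thetaStab P θ)
  obtain ⟨hdvd, hcard⟩ := card_block_eq P hM hP θ hθ hind
  obtain ⟨e, he⟩ : ∃ e : ℕ, (CP).relIndex (thetaStab P θ) = e := ⟨_, rfl⟩
  rw [he] at hdvd hcard h3e ⊢
  have hpos : 0 < p - 1 := by omega
  have he0 : 0 < e := Nat.pos_of_dvd_of_pos hdvd hpos
  have hele : e ≤ p - 1 := Nat.le_of_dvd hpos hdvd
  have hq2e : 3 * e ≤ p - 1 := h3e
  have hlt : e + 1 < p := by omega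
  obtain ⟨δ₀, d, ζ₀, a, Y, hδ, hYB, hζY, hYsurj, hζR, hYcard, haout, hX, hval, hnorm,
    hreg⟩ := main_aux_gen_iff_h78 P hP hM hB θ hθK hind (thetaStab P θ) hTN hT' e he hlt
  have hYdiv : Y.card = (p - 1) / e := (Nat.div_eq_of_eq_mul_left he0 hYcard.symm).symm
  have hY2 : 2 ≤ Y.card := by
    by_contra hc
    push Not at hc
    have h1 : Y.card * e ≤ 1 * e := Nat.mul_le_mul_right e (by omega)
    omega
  obtain ⟨y₀, hy₀⟩ := exists_ne_one_of_card P hP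
  -- the nonexceptional characters
  obtain ⟨X, hXdef⟩ : ∃ X : Finset (IrrCharacter G),
      X = Finset.univ.filter (fun χ => χ ∈ B ∧ χ ∉ Y) := ⟨_, rfl⟩
  have hmemX : ∀ χ, χ ∈ X ↔ χ ∈ B ∧ χ ∉ Y := by
    intro χ
    rw [hXdef]
    simp
  have hdisj : Disjoint X Y := by
    rw [Finset.disjoint_left]
    intro χ hχ
    exact ((hmemX χ).mp hχ).2
  have hunion : Finset.univ.filter (fun χ : IrrCharacter G => χ ∈ B) = X ∪ Y := by
    ext χ
    simp only [Finset.mem_filter, Finset.mem_univ, true_and, Finset.mem_union, hmemX]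
    constructor
    · intro h
      by_cases hY : χ ∈ Y
      · exact Or.inr hY
      · exact Or.inl ⟨h, hY⟩
    · rintro (h | h)
      · exact h.1
      · exact hYB χ h
  have hcardB : Nat.card B = X.card + Y.card := by
    rw [card_block_eq_card_filter, hunion, Finset.card_union_of_disjoint hdisj]
  have hXcard : X.card = e := by omega
  have haX0 : ∀ χ ∈ X, a χ ≠ 0 := by
    intro χ hχ h0
    have h1 := (hmemX χ).mp hχ
    have h2 := hX χ h1.1 h1.2 y₀ hy₀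
    rw [h0] at h2
    apply fpart_not_memLocalIdeal P hP hM hind hθb hθK h1.1 y₀ hy₀ (thetaStab P θ) hTN hT'
    rw [h2]
    simpa using memLocalIdeal_zero (M := M) hMp.ne_top
  have hsplit : ∀ {N : Type} [AddCommMonoid N] (f : IrrCharacter G → N),
      (∀ χ, χ ∉ B → f χ = 0) →
      ∑ χ ∈ Finset.univ.filter (· ∉ Y), f χ = ∑ χ ∈ X, f χ := by
    intro N _ f hf
    rw [hXdef]
    symm
    apply Finset.sum_subset
    · intro χ hχ
      simp only [Finset.mem_filter, Finset.mem_univ, true_and] at hχ ⊢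
      exact hχ.2
    · intro χ hχ hχ'
      simp only [Finset.mem_filter, Finset.mem_univ, true_and] at hχ hχ'
      apply hf
      intro hB
      exact hχ' ⟨hB, hχ⟩
  have hSX : ∑ χ ∈ Finset.univ.filter (· ∉ Y), a χ ^ 2 = ∑ χ ∈ X, a χ ^ 2 :=
    hsplit (fun χ => a χ ^ 2) (fun χ hχ => by
      show a χ ^ 2 = 0
      rw [haout χ hχ]
      norm_num)
  rw [hSX] at hnorm
  have hge1 : ∀ χ ∈ X, 1 ≤ a χ ^ 2 := by
    intro χ hχ
    rw [one_le_sq_iff_one_le_abs]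
    exact Int.one_le_abs (haX0 χ hχ)
  have hSge : (X.card : ℤ) ≤ ∑ χ ∈ X, a χ ^ 2 := by
    have h1 : ∑ χ ∈ X, (1 : ℤ) ≤ ∑ χ ∈ X, a χ ^ 2 := Finset.sum_le_sum hge1
    rw [Finset.sum_const, nsmul_eq_mul, mul_one] at h1
    exact h1
  have hSe : (e : ℤ) ≤ ∑ χ ∈ X, a χ ^ 2 := by
    rw [hXcard] at hSge
    exact hSge
  obtain ⟨hS, hd⟩ := norm_cases_general hδ hY2 hSe hnorm
  have haX1 : ∀ χ ∈ X, a χ ^ 2 = 1 := by
    have h1 : ∑ χ ∈ X, (a χ ^ 2 - 1) = 0 := by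
      rw [Finset.sum_sub_distrib, hS, Finset.sum_const, nsmul_eq_mul, mul_one, hXcard]
      ring
    intro χ hχ
    have h2 := (Finset.sum_eq_zero_iff_of_nonneg (fun χ hχ => by
      have := hge1 χ hχ
      linarith)).mp h1 χ hχ
    linarith
  have haXpm : ∀ χ ∈ X, a χ = 1 ∨ a χ = -1 := by
    intro χ hχ
    have h1 := haX1 χ hχ
    have h3 : a χ ≤ 1 ∧ -1 ≤ a χ := by constructor <;> nlinarith
    obtain ⟨h4, h5⟩ := h3
    have h6 : a χ = -1 ∨ a χ = 0 ∨ a χ = 1 := by omega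
    rcases h6 with h6 | h6 | h6
    · exact Or.inr h6
    · rw [h6] at h1
      norm_num at h1
    · exact Or.inl h6
  have hnonexc : ∀ χ ∈ B, χ ∉ Y → ∃ a : ℤ, (a = 1 ∨ a = -1) ∧
      ∀ y : G, y ∈ (P : Subgroup G) → y ≠ 1 →
        fpart p CP (χ : G → ℂ) (θ : ↥CP → ℂ) y = (a : ℂ) := by
    intro χ hχ hχY
    refine ⟨a χ, haXpm χ ((hmemX χ).mpr ⟨hχ, hχY⟩), ?_⟩
    intro y hy hy1
    exact hX χ hχ hχY ⟨y, hy⟩ (fun h => hy1 (congrArg Subtype.val h))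
  have hone : ¬ p ∣ orderOf (1 : G) := by
    rw [orderOf_one]
    exact hpp.one_lt.ne' ∘ Nat.dvd_one.mp
  have hdegY : ∀ η ∈ Y, ∀ η' ∈ Y, (η : G → ℂ) 1 = (η' : G → ℂ) 1 :=
    (hreg 1 hone).1
  have hY3 : 3 ≤ Y.card := by
    by_contra hc
    push Not at hc
    have h1 : Y.card * e ≤ 2 * e := Nat.mul_le_mul_right e (by omega)
    omega
  have hd0 : d = 0 := by
    rcases hd with h | ⟨-, h⟩
    · exact h
    · omega
  refine ⟨δ₀, Y, X, ζ₀, a, hδ, hmemX, hYB, hXcard, hYcard, haXpm, ?_, hζY, hYsurj, hζR, ?_, ?_⟩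
  · intro χ hχ y hy
    have h1 := (hmemX χ).mp hχ
    exact hX χ h1.1 h1.2 y hy
  · intro ψ hψ y hy
    rw [hval ψ hψ y hy, hd0]
    push_cast
    ring
  · intro g hg
    obtain ⟨h1, h2⟩ := hreg g hg
    refine ⟨h1, ?_⟩
    intro η hη
    have h3 := h2 η hη
    rw [hsplit (fun χ => (a χ : ℂ) * (χ : G → ℂ) g) (fun χ hχ => by
      show (a χ : ℂ) * (χ : G → ℂ) g = 0
      rw [haout χ hχ]
      simp), hd0] at h3
    rw [← h3]
    push_cast
    ring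

end Cfsg.Agent.Lib.Helper50.S4705
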