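import Mathlib
import Cfsg.Prelude.Def_Characters
import Cfsg.Prelude.Def_Blocks
import Cfsg.Agent.Lib.Helper17.PM2.Defs

/-!
# S4705 modules [CENT-PREG], [INVOL], [PSING] (helper17's sheet SPINE4705.md): helper50
-/

set_option autoImplicit false
set_option linter.unusedSectionVars false
set_option linter.unusedVariables false
set_option linter.style.haveILetI false

open Cfsg Cfsg.Agent.Lib.Helper17.PM2
open scoped ComplexConjugate Pointwise

universe u

namespace Cfsg.Agent.Lib.Helper50.S4705

/-- a central element of order divisible by `p` forces a Sylow `p`-subgroup of order `p` to be normal -/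
theorem sylow_normal_of_central {G : Type u} [Group G] [Finite G] {p : ℕ} [Fact p.Prime]
    (P : Sylow p G) (hP : Nat.card P = p) (z : G) (hz : z ∈ Subgroup.center G)
    (hpz : p ∣ orderOf z) : (P : Subgroup G).Normal := by
  have hp : p.Prime := Fact.out
  have ho : orderOf z ≠ 0 := (orderOf_pos z).ne'
  set c := z ^ (orderOf z / p) with hc
  have hco : orderOf c = p := orderOf_pow_orderOf_div ho hpz
  have hcz : c ∈ Subgroup.center G := Subgroup.pow_mem _ hz _
  have hle : Subgroup.zpowers c ≤ Subgroup.center G := by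
    rw [Subgroup.zpowers_le]; exact hcz
  have hnorm : (Subgroup.zpowers c).Normal := by
    constructor
    intro n hn g
    have h1 : n ∈ Subgroup.center G := hle hn
    have h2 : g * n * g⁻¹ = n := by
      rw [Subgroup.mem_center_iff.mp h1 g, mul_inv_cancel_right]
    rw [h2]; exact hn
  have hcard : Nat.card (Subgroup.zpowers c) = p := by rw [Nat.card_zpowers, hco]
  have hpg : IsPGroup p (Subgroup.zpowers c) := IsPGroup.of_card (n := 1) (by rw [hcard, pow_one])
  have hcP : Subgroup.zpowers c ≤ (P : Subgroup G) := hpg.le_sylow_of_normal P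
  have heq : Subgroup.zpowers c = (P : Subgroup G) :=
    Subgroup.eq_of_le_of_card_ge hcP (by rw [hcard]; exact hP.le)
  constructor
  intro n hn g
  have h1 : n ∈ Subgroup.center G := hle (heq ▸ hn)
  have h2 : g * n * g⁻¹ = n := by
    rw [Subgroup.mem_center_iff.mp h1 g, mul_inv_cancel_right]
  rw [h2]; exact hn

variable {G : Type u} [Group G] [Fintype G] {p : ℕ} (S : Setting G p)

/-- **[CENT-PREG]** -/
theorem center_preg (S : Setting G p) : ∀ z ∈ Subgroup.center G, ¬ p ∣ orderOf z := by
  intro z hz hpz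
  haveI : Fact p.Prime := ⟨S.hp⟩
  exact S.hnn (sylow_normal_of_central S.P S.hP z hz hpz)

/-- **[INVOL]** -/
theorem exists_invol (S : Setting G p) : ∃ t : G, orderOf t = 2 := by
  haveI : Fact (Nat.Prime 2) := ⟨Nat.prime_two⟩
  apply exists_prime_orderOf_dvd_card' 2
  have h1 : (Subgroup.centralizer ((S.P : Subgroup G) : Set G)).relIndex
      (Subgroup.normalizer ((S.P : Subgroup G) : Set G)) ∣
      Nat.card (Subgroup.normalizer ((S.P : Subgroup G) : Set G)) := Subgroup.relIndex_dvd_card _ _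
  rw [S.D.hidx] at h1
  exact h1.trans (Subgroup.card_subgroup_dvd_card _)

/-- **[PSING]** -/
theorem psing_conj (g : G) (hg : p ∣ orderOf g) :
    ∃ h : G, ∃ y ∈ (S.P : Subgroup G), y ≠ 1 ∧ ∃ z ∈ Subgroup.center G, h * g * h⁻¹ = y * z := by
  haveI : Fact p.Prime := ⟨S.hp⟩
  have hp : p.Prime := S.hp
  have ho : orderOf g ≠ 0 := (orderOf_pos g).ne'
  set c := g ^ (orderOf g / p) with hc
  have hco : orderOf c = p := orderOf_pow_orderOf_div ho hg
  have hcard : Nat.card (Subgroup.zpowers c) = p := by rw [Nat.card_zpowers, hco]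
  have hpg : IsPGroup p (Subgroup.zpowers c) := IsPGroup.of_card (n := 1) (by rw [hcard, pow_one])
  obtain ⟨Q, hQ⟩ := hpg.exists_le_sylow
  obtain ⟨h, hh⟩ := MulAction.exists_smul_eq G Q S.P
  -- `c' = h c h⁻¹ ∈ P`
  have hc'P : h * c * h⁻¹ ∈ (S.P : Subgroup G) := by
    have h1 : c ∈ (Q : Subgroup G) := hQ (Subgroup.mem_zpowers c)
    have h2 : MulAut.conj h • c ∈ MulAut.conj h • (Q : Subgroup G) :=
      Subgroup.smul_mem_pointwise_smul _ _ _ h1
    rw [← hh, Sylow.smul_def, Sylow.pointwise_smul_def]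
    simpa [MulAut.smul_def] using h2
  have hc'o : orderOf (h * c * h⁻¹) = p := by
    have h1 := orderOf_injective (MulAut.conj h).toMonoidHom (MulAut.conj h).injective c
    simp only [MulEquiv.coe_toMonoidHom, MulAut.conj_apply] at h1
    rw [h1]; exact hco
  have hc'pow : h * c * h⁻¹ = (h * g * h⁻¹) ^ (orderOf g / p) := by
    rw [hc, conj_pow]
  -- `P = ⟨c'⟩`
  have hcard' : Nat.card (Subgroup.zpowers (h * c * h⁻¹)) = p := by rw [Nat.card_zpowers, hc'o]
  have hle : Subgroup.zpowers (h * c * h⁻¹) ≤ (S.P : Subgroup G) := by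
    rw [Subgroup.zpowers_le]; exact hc'P
  have heq : Subgroup.zpowers (h * c * h⁻¹) = (S.P : Subgroup G) :=
    Subgroup.eq_of_le_of_card_ge hle (by rw [hcard']; exact S.hP.le)
  -- `g' = h g h⁻¹` centralizes `P`
  have hmem : h * g * h⁻¹ ∈ Subgroup.centralizer ((S.P : Subgroup G) : Set G) := by
    rw [Subgroup.mem_centralizer_iff]
    intro x hx
    have hx' : x ∈ Subgroup.zpowers (h * c * h⁻¹) := by rw [heq]; exact hx
    obtain ⟨k, rfl⟩ := Subgroup.mem_zpowers_iff.mp hx'
    rw [hc'pow, ← zpow_natCast, ← zpow_mul]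
    exact (Commute.zpow_left (Commute.refl _) _).eq
  obtain ⟨y, hy, z, hz, hyz⟩ := S.D.hcent _ hmem
  refine ⟨h, y, hy, ?_, z, hz, hyz⟩
  rintro rfl
  rw [one_mul] at hyz
  apply center_preg S z hz
  rw [← hyz]
  have h1 := orderOf_injective (MulAut.conj h).toMonoidHom (MulAut.conj h).injective g
  simp only [MulEquiv.coe_toMonoidHom, MulAut.conj_apply] at h1
  rw [h1]; exact hg

end Cfsg.Agent.Lib.Helper50.S4705
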