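import Mathlib
import Cfsg.Prelude.Def_Characters
import Cfsg.Prelude.Def_Blocks
import Cfsg.Agent.Lib.Helper17.PM2.Defs

/-!
# S4705 module [PROD] (helper17's sheet SPINE4705.md): helper50

`G = L × Z(G)` for `L = ⟨P^G⟩` with `Z(L) = 1`, `C_G(P) = P Z(G)`, `|N_G(P) : C_G(P)| = 2 = |N_L(Q) : C_L(Q)|`:
Frattini `G = L N_G(P)`, and `N_G(P) = C_G(P) ∪ n C_G(P)` with `n ∈ L`.
-/

set_option autoImplicit false
set_option linter.unusedSectionVars false
set_option linter.unusedVariables false
set_option linter.style.haveILetI false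

open Cfsg Cfsg.Agent.Lib.Helper17.PM2
open scoped ComplexConjugate Pointwise

universe u

namespace Cfsg.Agent.Lib.Helper50.S4705

/-- internal direct product of a normal subgroup and the centre -/
theorem nonempty_mulEquiv_prod_center {G : Type u} [Group G] (L : Subgroup G) [L.Normal]
    (hsup : L ⊔ Subgroup.center G = ⊤) (hinf : ∀ x ∈ L, x ∈ Subgroup.center G → x = 1) :
    Nonempty (G ≃* L × Subgroup.center G) := by
  let f : L × Subgroup.center G →* G :=
    MonoidHom.noncommCoprod L.subtype (Subgroup.center G).subtype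
      (fun m n => (Subgroup.mem_center_iff.mp n.2 (m : G) : (m : G) * (n : G) = (n : G) * (m : G)))
  have hf : ∀ x : L × Subgroup.center G, f x = (x.1 : G) * (x.2 : G) := fun x => rfl
  have hinj : Function.Injective f := by
    rw [injective_iff_map_eq_one]
    intro x hx
    rw [hf] at hx
    have h1 : (x.1 : G) = ((x.2 : G))⁻¹ := eq_inv_of_mul_eq_one_left hx
    have h2 : (x.1 : G) ∈ Subgroup.center G := by rw [h1]; exact Subgroup.inv_mem _ x.2.2
    have h3 : (x.1 : G) = 1 := hinf _ x.1.2 h2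
    have h4 : (x.2 : G) = 1 := by rw [h3, one_mul] at hx; exact hx
    ext
    · exact h3
    · exact h4
  have hsurj : Function.Surjective f := by
    intro g
    have hg : g ∈ L ⊔ Subgroup.center G := by rw [hsup]; exact Subgroup.mem_top g
    obtain ⟨y, hy, z, hz, hyz⟩ := Subgroup.mem_sup_of_normal_left.mp hg
    exact ⟨(⟨y, hy⟩, ⟨z, hz⟩), by rw [hf]; exact hyz⟩
  exact ⟨(MulEquiv.ofBijective f ⟨hinj, hsurj⟩).symm⟩

/-- **[PROD]** -/
theorem prod_decomp {G : Type u} [Group G] [Finite G] {p : ℕ} [Fact p.Prime] (P : Sylow p G)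
    (hP : Nat.card P = p) (L : Subgroup G)
    (hL : L = Subgroup.normalClosure ((P : Subgroup G) : Set G))
    (hcent : ∀ c ∈ Subgroup.centralizer ((P : Subgroup G) : Set G),
      ∃ y ∈ (P : Subgroup G), ∃ z ∈ Subgroup.center G, c = y * z)
    (hidx : (Subgroup.centralizer ((P : Subgroup G) : Set G)).relIndex
      (Subgroup.normalizer ((P : Subgroup G) : Set G)) = 2)
    (Q : Sylow p L)
    (hidxL : (Subgroup.centralizer ((Q : Subgroup L) : Set L)).relIndex
      (Subgroup.normalizer ((Q : Subgroup L) : Set L)) = 2)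
    (hZL : Subgroup.center L = ⊥) : Nonempty (G ≃* L × Subgroup.center G) := by
  have hPL : (P : Subgroup G) ≤ L := by rw [hL]; exact Subgroup.le_normalClosure
  haveI hLn : L.Normal := by rw [hL]; exact Subgroup.normalClosure_normal
  -- an element of `N_L(Q)` outside `C_L(Q)`
  have hne : ¬ Subgroup.normalizer ((Q : Subgroup L) : Set L) ≤
      Subgroup.centralizer ((Q : Subgroup L) : Set L) := by
    intro h
    rw [← Subgroup.relIndex_eq_one] at h
    omega
  obtain ⟨n₀, hn₀N, hn₀C⟩ := SetLike.not_le_iff_exists.mp hne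
  -- move `Q` to `P`
  obtain ⟨l, hl⟩ := MulAction.exists_smul_eq L Q (P.subtype hPL)
  -- `n = l n₀ l⁻¹`
  have hnN : (l * n₀ * l⁻¹) • (P.subtype hPL) = P.subtype hPL := by
    rw [← hl, ← mul_smul, inv_mul_cancel_right, mul_smul, Sylow.smul_eq_iff_mem_normalizer.mpr hn₀N]
  have hnN' : l * n₀ * l⁻¹ ∈ Subgroup.normalizer ((P.subtype hPL : Sylow p L) : Set L) :=
    Sylow.smul_eq_iff_mem_normalizer.mp hnN
  -- membership in `l • Q`
  have hmemlQ : ∀ q : L, q ∈ (Q : Subgroup L) → l * q * l⁻¹ ∈ ((P.subtype hPL : Sylow p L) : Subgroup L) := by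
    intro q hq
    have h2 : MulAut.conj l • q ∈ MulAut.conj l • (Q : Subgroup L) :=
      Subgroup.smul_mem_pointwise_smul _ _ _ hq
    rw [← hl, Sylow.smul_def, Sylow.pointwise_smul_def]
    simpa [MulAut.smul_def] using h2
  -- `n` normalizes `P` in `G`
  have hnNG : ((l * n₀ * l⁻¹ : L) : G) ∈ Subgroup.normalizer ((P : Subgroup G) : Set G) := by
    rw [Subgroup.mem_normalizer_iff]
    intro x
    constructor
    · intro hx
      have h1 := (Subgroup.mem_normalizer_iff.mp hnN' ⟨x, hPL hx⟩).mp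
        (by rw [Sylow.coe_subtype, Subgroup.mem_subgroupOf]; exact hx)
      rw [Sylow.coe_subtype, Subgroup.mem_subgroupOf] at h1
      simpa using h1
    · intro hx
      -- x = n⁻¹ (n x n⁻¹) n
      have hxL : x ∈ L := by
        have h1 : ((l * n₀ * l⁻¹ : L) : G) * x * ((l * n₀ * l⁻¹ : L) : G)⁻¹ ∈ L := hPL hx
        have h2 : x = ((l * n₀ * l⁻¹ : L) : G)⁻¹ *
            (((l * n₀ * l⁻¹ : L) : G) * x * ((l * n₀ * l⁻¹ : L) : G)⁻¹) * ((l * n₀ * l⁻¹ : L) : G) := by
          group
        rw [h2]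
        exact L.mul_mem (L.mul_mem (L.inv_mem (l * n₀ * l⁻¹).2) h1) (l * n₀ * l⁻¹).2
      have h1 := (Subgroup.mem_normalizer_iff.mp hnN' ⟨x, hxL⟩).mpr
        (by rw [Sylow.coe_subtype, Subgroup.mem_subgroupOf]; simpa using hx)
      rw [Sylow.coe_subtype, Subgroup.mem_subgroupOf] at h1
      exact h1
  -- `n` does not centralize `P`
  have hnCG : ((l * n₀ * l⁻¹ : L) : G) ∉ Subgroup.centralizer ((P : Subgroup G) : Set G) := by
    intro hc
    apply hn₀C
    rw [Subgroup.mem_centralizer_iff]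
    intro q hq
    have h1 := hmemlQ q hq
    rw [Sylow.coe_subtype, Subgroup.mem_subgroupOf] at h1
    have h2 := Subgroup.mem_centralizer_iff.mp hc _ h1
    -- (l q l⁻¹) * (l n₀ l⁻¹) = (l n₀ l⁻¹) * (l q l⁻¹) in G
    have h3 : (l * q * l⁻¹) * (l * n₀ * l⁻¹) = (l * n₀ * l⁻¹) * (l * q * l⁻¹) := by
      apply Subtype.ext
      simpa using h2
    have h4 : q * n₀ = l⁻¹ * ((l * q * l⁻¹) * (l * n₀ * l⁻¹)) * l := by group
    rw [h4, h3]; group
  -- `N_G(P) ≤ L ⊔ Z(G)`
  have hNle : Subgroup.normalizer ((P : Subgroup G) : Set G) ≤ L ⊔ Subgroup.center G := by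
    intro m hm
    have hCle : ∀ c ∈ Subgroup.centralizer ((P : Subgroup G) : Set G), c ∈ L ⊔ Subgroup.center G := by
      intro c hc
      obtain ⟨y, hy, z, hz, rfl⟩ := hcent c hc
      exact Subgroup.mul_mem _ (Subgroup.mem_sup_left (hPL hy)) (Subgroup.mem_sup_right hz)
    by_cases hmC : m ∈ Subgroup.centralizer ((P : Subgroup G) : Set G)
    · exact hCle m hmC
    · have h2 : ((Subgroup.centralizer ((P : Subgroup G) : Set G)).subgroupOf
          (Subgroup.normalizer ((P : Subgroup G) : Set G))).index = 2 := hidx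
      have h3 := Subgroup.mul_mem_iff_of_index_two h2
        (a := (⟨((l * n₀ * l⁻¹ : L) : G), hnNG⟩ : Subgroup.normalizer ((P : Subgroup G) : Set G))⁻¹)
        (b := ⟨m, hm⟩)
      have h4 : ((l * n₀ * l⁻¹ : L) : G)⁻¹ * m ∈ Subgroup.centralizer ((P : Subgroup G) : Set G) := by
        have h5 : ¬ ((⟨((l * n₀ * l⁻¹ : L) : G), hnNG⟩ :
            Subgroup.normalizer ((P : Subgroup G) : Set G))⁻¹ ∈
            (Subgroup.centralizer ((P : Subgroup G) : Set G)).subgroupOf
              (Subgroup.normalizer ((P : Subgroup G) : Set G))) := by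
          rw [Subgroup.inv_mem_iff, Subgroup.mem_subgroupOf]
          exact hnCG
        have h6 : ¬ ((⟨m, hm⟩ : Subgroup.normalizer ((P : Subgroup G) : Set G)) ∈
            (Subgroup.centralizer ((P : Subgroup G) : Set G)).subgroupOf
              (Subgroup.normalizer ((P : Subgroup G) : Set G))) := by
          rw [Subgroup.mem_subgroupOf]
          exact hmC
        have h7 := h3.mpr (by simp only [h5, h6])
        rw [Subgroup.mem_subgroupOf] at h7
        simpa using h7
      have h8 : m = ((l * n₀ * l⁻¹ : L) : G) * (((l * n₀ * l⁻¹ : L) : G)⁻¹ * m) := by group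
      rw [h8]
      exact Subgroup.mul_mem _ (Subgroup.mem_sup_left (l * n₀ * l⁻¹).2) (hCle _ h4)
  -- Frattini
  have hfr : Subgroup.normalizer ((P : Subgroup G) : Set G) ⊔ L = ⊤ :=
    Sylow.normalizer_sup_eq_top' P hPL
  have hsup : L ⊔ Subgroup.center G = ⊤ := by
    apply top_le_iff.mp
    rw [← hfr]
    exact sup_le hNle le_sup_left
  apply nonempty_mulEquiv_prod_center L hsup
  intro x hxL hxZ
  have h1 : (⟨x, hxL⟩ : L) ∈ Subgroup.center L := by
    rw [Subgroup.mem_center_iff]
    intro g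
    apply Subtype.ext
    exact Subgroup.mem_center_iff.mp hxZ g
  rw [hZL, Subgroup.mem_bot] at h1
  exact congrArg Subtype.val h1

end Cfsg.Agent.Lib.Helper50.S4705
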