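import Mathlib
import Cfsg.Prelude.Def_Characters
import Cfsg.Prelude.Def_Blocks
import Cfsg.Agent.Lib.Helper17.PM2.Defs
import Cfsg.Agent.Lib.Helper50.S4504.CNoIdx

/-!
# S4705 module [RED-PERF] (helper17's sheet SPINE4705.md): helper50
-/

set_option autoImplicit false
set_option linter.unusedSectionVars false
set_option linter.unusedVariables false
set_option linter.style.haveILetI false

open Cfsg Cfsg.Agent.Lib.Helper17.PM2
open scoped ComplexConjugate

universe u

namespace Cfsg.Agent.Lib.Helper50.S4705

/-- **[RED-PERF]** -/
theorem perfect_of_gen {L : Type u} [Group L] [Finite L] {p : ℕ} [Fact p.Prime] (Q : Sylow p L)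
    (hQ : Nat.card Q = p) (hgen : Subgroup.normalClosure ((Q : Subgroup L) : Set L) = ⊤)
    (hidx : (Subgroup.centralizer ((Q : Subgroup L) : Set L)).relIndex
      (Subgroup.normalizer ((Q : Subgroup L) : Set L)) = 2) : commutator L = ⊤ := by
  have hp : p.Prime := Fact.out
  -- `Q ⊔ L'` is normal, hence everything
  have hnormal : ((Q : Subgroup L) ⊔ commutator L).Normal := by
    constructor
    intro n hn g
    have h1 : g * n * g⁻¹ = (g * n * g⁻¹ * n⁻¹) * n := by group
    rw [h1]
    apply Subgroup.mul_mem _ _ hn
    apply (le_sup_right : commutator L ≤ (Q : Subgroup L) ⊔ commutator L)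
    rw [commutator_def]
    exact Subgroup.commutator_mem_commutator (Subgroup.mem_top g) (Subgroup.mem_top n)
  have htop : (Q : Subgroup L) ⊔ commutator L = ⊤ := by
    apply top_le_iff.mp
    rw [← hgen]
    exact Subgroup.normalClosure_le_normal (le_sup_left : (Q : Subgroup L) ≤ _)
  -- index of `L'` divides `p`
  have hdvd : (commutator L).index ∣ p := by
    have h1 : (commutator L).relIndex ((Q : Subgroup L) ⊔ commutator L) =
        (commutator L).relIndex (Q : Subgroup L) := Subgroup.relIndex_sup_right _ _
    rw [htop, Subgroup.relIndex_top_right] at h1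
    rw [h1]
    have h2 : (commutator L).relIndex (Q : Subgroup L) ∣ Nat.card (Q : Subgroup L) :=
      Subgroup.relIndex_dvd_card _ _
    rwa [hQ] at h2
  rcases (Nat.dvd_prime hp).mp hdvd with h1 | h1
  · exact Subgroup.index_eq_one.mp h1
  · exfalso
    have hNC : Subgroup.centralizer ((Q : Subgroup L) : Set L) ≠
        Subgroup.normalizer ((Q : Subgroup L) : Set L) := by
      intro h
      rw [h, Subgroup.relIndex_self] at hidx
      omega
    exact Cfsg.Agent.Lib.Helper50.S4504.no_normal_index_p Q hQ hNC (commutator L) inferInstance h1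

end Cfsg.Agent.Lib.Helper50.S4705
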