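import Mathlib
import Cfsg.Prelude.Def_Characters
import Cfsg.Prelude.Def_Blocks
import Cfsg.Agent.Lib.Helper17.PM2.Defs
import Cfsg.Agent.Lib.Helper92.S4504.CIrr

/-!
# S4705 module [RED-SYL] (helper17's sheet SPINE4705.md): helper50 (hedge)
-/

set_option autoImplicit false
set_option linter.unusedSectionVars false
set_option linter.unusedVariables false
set_option linter.style.haveILetI false

open Cfsg Cfsg.Agent.Lib.Helper17.PM2
open scoped ComplexConjugate

universe u

namespace Cfsg.Agent.Lib.Helper50.S4705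

/-- **[RED-SYL]** -/
theorem sylow_normalClosure {G : Type u} [Group G] [Finite G] {p : ℕ} [Fact p.Prime]
    (P : Sylow p G) (hP : Nat.card P = p) (hnn : ¬ (P : Subgroup G).Normal) (L : Subgroup G)
    (hL : L = Subgroup.normalClosure ((P : Subgroup G) : Set G)) (Q : Sylow p L) :
    Nat.card Q = p ∧ ¬ (Q : Subgroup L).Normal ∧
      Subgroup.normalClosure ((Q : Subgroup L) : Set L) = ⊤ := by
  have hPL : (P : Subgroup G) ≤ L := by rw [hL]; exact Subgroup.le_normalClosure
  have hLn : L.Normal := by rw [hL]; exact Subgroup.normalClosure_normal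
  refine ⟨Cfsg.Agent.Lib.Helper92.S4504.cIrr_card_sylow P hP L hPL Q, ?_,
    Cfsg.Agent.Lib.Helper92.S4504.cIrr_normalClosure_eq_top P L hL Q⟩
  intro hQn
  apply hnn
  haveI : Unique (Sylow p L) := Sylow.unique_of_normal Q hQn
  rw [← Subgroup.normalizer_eq_top_iff]
  apply top_le_iff.mp
  intro g _
  apply Sylow.smul_eq_iff_mem_normalizer.mp
  have hle : ((g • P : Sylow p G) : Subgroup G) ≤ L := by
    intro y hy
    rw [Cfsg.Agent.Lib.Helper34.mem_sylow_smul_iff] at hy
    have h1 : g⁻¹ * y * g ∈ L := hPL hy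
    have h2 := hLn.conj_mem _ h1 g
    have h3 : g * (g⁻¹ * y * g) * g⁻¹ = y := by group
    rwa [h3] at h2
  have heq : (g • P).subtype hle = P.subtype hPL := Subsingleton.elim _ _
  exact Sylow.subtype_injective heq

end Cfsg.Agent.Lib.Helper50.S4705
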