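import Mathlib
import Cfsg.Prelude.Def_Characters
import Cfsg.Prelude.Def_Blocks
import Cfsg.Agent.Lib.Helper17.PM2.Defs

/-!
# S4705 module [VALODD], relative form (helper17's sheet SPINE4705.md): helper50 (hedge)

`val_odd_of`: `[VALODD]` with the centrality criterion `‖ζ b‖ = ‖ζ 1‖ → b ∈ Z(G)` as a hypothesis
(it is `Helper80GP.mem_center_of_norm_eq S.hζ S.hfaith`).
-/

set_option autoImplicit false
set_option linter.unusedSectionVars false
set_option linter.unusedVariables false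
set_option linter.style.haveILetI false

open Cfsg Cfsg.Agent.Lib.Helper17.PM2
open scoped ComplexConjugate

universe u

namespace Cfsg.Agent.Lib.Helper50.S4705

variable {G : Type u} [Group G] [Fintype G] {p : ℕ} (S : Setting G p)

theorem val_odd_of
    (hcen : ∀ b : G, ‖S.ζ b‖ = ‖S.ζ 1‖ → b ∈ Subgroup.center G)
    (hR : ∀ g : G, ¬ p ∣ orderOf g → S.ζ g ^ 2 - S.ζ (g ^ 2) = ((p : ℂ) - 3) * S.ζ (g ^ S.k))
    (g : G) (hodd : Odd (orderOf g)) (hreg : ¬ p ∣ orderOf g) (hnc : g ∉ Subgroup.center G) :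
    S.ζ g = 0 := by
  have hp5 : 5 < p := S.h5
  have hq : (0 : ℝ) < (p : ℝ) - 2 := by
    have h5 : (5 : ℝ) < p := by exact_mod_cast hp5
    linarith
  have hpc : ‖((p : ℂ) - 2)‖ = (p : ℝ) - 2 := by
    have h1 : ((p : ℂ) - 2) = (((p : ℝ) - 2 : ℝ) : ℂ) := by push_cast; ring
    rw [h1, Complex.norm_real, Real.norm_of_nonneg hq.le]
  -- the step relation
  have hstep : ∀ j : ℕ, S.ζ (g ^ 2 ^ j) ^ 2 = ((p : ℂ) - 2) * S.ζ (g ^ 2 ^ (j + 1)) := by
    intro j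
    have ho : orderOf (g ^ 2 ^ j) ∣ orderOf g := orderOf_pow_dvd _
    have hodd' : Odd (orderOf (g ^ 2 ^ j)) := Odd.of_dvd_nat hodd ho
    have hreg' : ¬ p ∣ orderOf (g ^ 2 ^ j) := fun h => hreg (h.trans ho)
    have h1 := hR _ hreg'
    rw [S.hkodd _ hodd'] at h1
    have h2 : (g ^ 2 ^ j) ^ 2 = g ^ 2 ^ (j + 1) := by rw [← pow_mul, pow_succ]
    rw [h2] at h1
    linear_combination h1
  have hnorm : ∀ j : ℕ, ‖S.ζ (g ^ 2 ^ j)‖ ^ 2 = ((p : ℝ) - 2) * ‖S.ζ (g ^ 2 ^ (j + 1))‖ := by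
    intro j
    have h := congrArg (fun z : ℂ => ‖z‖) (hstep j)
    simp only [norm_pow, norm_mul] at h
    rw [h, hpc]
  -- normalised sequence
  have hb : ∀ j : ℕ, ‖S.ζ (g ^ 2 ^ j)‖ / ((p : ℝ) - 2) = (‖S.ζ (g ^ 2 ^ 0)‖ / ((p : ℝ) - 2)) ^ 2 ^ j := by
    intro j
    induction j with
    | zero => simp
    | succ j ih =>
      have h1 : ‖S.ζ (g ^ 2 ^ (j + 1))‖ / ((p : ℝ) - 2) = (‖S.ζ (g ^ 2 ^ j)‖ / ((p : ℝ) - 2)) ^ 2 := by
        rw [div_pow, hnorm j]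
        field_simp
      rw [h1, ih, ← pow_mul, ← pow_succ]
  -- periodicity
  have hper : g ^ 2 ^ (Nat.totient (orderOf g)) = g := by
    have hcop : Nat.Coprime 2 (orderOf g) := Nat.coprime_two_left.mpr hodd
    have h1 : 2 ^ Nat.totient (orderOf g) ≡ 1 [MOD orderOf g] := Nat.ModEq.pow_totient hcop
    have h2 := (pow_eq_pow_iff_modEq (x := g)).mpr h1
    rw [h2, pow_one]
  have hn1 : 1 ≤ Nat.totient (orderOf g) := Nat.totient_pos.mpr (orderOf_pos g)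
  have hN : 2 ≤ 2 ^ Nat.totient (orderOf g) := by
    calc 2 = 2 ^ 1 := by norm_num
      _ ≤ 2 ^ Nat.totient (orderOf g) := Nat.pow_le_pow_right (by norm_num) hn1
  have hg0 : g ^ 2 ^ 0 = g := by rw [pow_zero, pow_one]
  have hx := hb (Nat.totient (orderOf g))
  rw [hper, hg0] at hx
  have hnn : 0 ≤ ‖S.ζ g‖ / ((p : ℝ) - 2) := div_nonneg (norm_nonneg _) hq.le
  by_cases h0 : ‖S.ζ g‖ / ((p : ℝ) - 2) = 0
  · have h1 : ‖S.ζ g‖ = 0 := by
      rcases div_eq_zero_iff.mp h0 with h | h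
      · exact h
      · exact absurd h hq.ne'
    exact norm_eq_zero.mp h1
  · exfalso
    have h1 : (‖S.ζ g‖ / ((p : ℝ) - 2)) ^ (2 ^ Nat.totient (orderOf g) - 1) = 1 := by
      have h2 : ‖S.ζ g‖ / ((p : ℝ) - 2) * (‖S.ζ g‖ / ((p : ℝ) - 2)) ^ (2 ^ Nat.totient (orderOf g) - 1)
          = ‖S.ζ g‖ / ((p : ℝ) - 2) * 1 := by
        rw [← pow_succ', Nat.sub_add_cancel (by omega), mul_one]
        exact hx.symm
      exact mul_left_cancel₀ h0 h2
    have h3 : ‖S.ζ g‖ / ((p : ℝ) - 2) = 1 :=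
      (pow_eq_one_iff_of_nonneg hnn (by omega)).mp h1
    have h4 : ‖S.ζ g‖ = (p : ℝ) - 2 := by
      rw [div_eq_one_iff_eq hq.ne'] at h3; exact h3
    apply hnc
    apply hcen
    rw [h4, S.hdeg, hpc]

end Cfsg.Agent.Lib.Helper50.S4705
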