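import Mathlib
import Cfsg.Prelude.Def_Characters
import Cfsg.Prelude.Def_Blocks
import Cfsg.Agent.Lib.Helper17.PM2.Defs
import Cfsg.Agent.Lib.Helper80.GalProd
import Cfsg.Agent.Lib.Helper50.S4705.ValOddOf

/-!
# S4705 module [VALODD] (helper17's sheet SPINE4705.md): helper50 (hedge)
-/

set_option autoImplicit false
set_option linter.unusedSectionVars false
set_option linter.unusedVariables false

open Cfsg Cfsg.Agent.Lib.Helper17.PM2
open scoped ComplexConjugate

universe u

namespace Cfsg.Agent.Lib.Helper50.S4705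

variable {G : Type u} [Group G] [Fintype G] {p : ℕ} (S : Setting G p)

/-- **[VALODD]** -/
theorem val_odd
    (hR : ∀ g : G, ¬ p ∣ orderOf g → S.ζ g ^ 2 - S.ζ (g ^ 2) = ((p : ℂ) - 3) * S.ζ (g ^ S.k))
    (g : G) (hodd : Odd (orderOf g)) (hreg : ¬ p ∣ orderOf g) (hnc : g ∉ Subgroup.center G) :
    S.ζ g = 0 :=
  val_odd_of S (fun _ hb => Cfsg.Agent.Lib.Helper80GP.mem_center_of_norm_eq S.hζ S.hfaith hb)
    hR g hodd hreg hnc

end Cfsg.Agent.Lib.Helper50.S4705
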